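import Cfsg.Agent.H478.RadTools_m3
import Cfsg.Agent.H459.Gallery
import Cfsg.Agent.FastGrp
import Cfsg.Agent.Prune
set_option linter.all false
prune_inst 0x7f00000000000000000000000000000000000000000000000000000000000000000000000000000000000000000000000000000000000000000000000000000000000000000000000000000000000000003fffffffffffffffffffffffffffbeffbdffffffff
open scoped Cfsg.Agent.FastGrp

/-!
# Radical automorphisms of order two and three: the interface of the rows (helper483, S3832, S4336, S3854)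

`x : MulAut K`, `K` a finite simple group.
* `NoRC p K` : no automorphism of order `p` of `K` is radical (`RC`);
* `TT x` : no element of `⟨x, x^g⟩` has prime order at least five;
* `Row23 p K` : the row of `K` for `p = 2, 3`; `SwapRow r K` : the node-moving involutions fixing a Borel subgroup;
* `TT.fix`, `TT.no_inv` : consequences of `TT`.
-/

set_option autoImplicit false
set_option linter.unusedSectionVars false

namespace Cfsg.Agent.H483.Rad23

open Subgroup Cfsg Cfsg.Agent.H459.Rad Cfsg.Agent.H459.Iface Cfsg.Agent.H459.Gallery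
open Cfsg.Agent.SignalizersComponents

/-- no automorphism of order `p` is radical -/
def NoRC (p : ℕ) (K : Type*) [Group K] : Prop := ∀ x : MulAut K, orderOf x = p → RC x → False

/-- no element of `⟨x, x^g⟩` has prime order at least five -/
def TT {K : Type*} [Group K] (x : MulAut K) : Prop :=
  ∀ g : K, ∀ w ∈ _root_.Subgroup.closure ({x, MulAut.conj g * x * (MulAut.conj g)⁻¹} : Set (MulAut K)),
    ∀ l : ℕ, l.Prime → 5 ≤ l → orderOf w ≠ l

/-- the row of `K` -/
def Row23 (p : ℕ) (K : Type*) [Group K] : Prop :=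
  ∀ x : MulAut K, orderOf x = p → RC x → PS 4 x → TT x → False

/-- the row of the automorphisms of order two which fix the Borel subgroup and move an overgroup of it -/
def SwapRow (r : ℕ) (K : Type*) [Group K] : Prop :=
  ∀ x : MulAut K, orderOf x = 2 → RC x → PS 4 x → TT x → ∀ U : Sylow r K,
    (∀ b ∈ normalizer ((U : Subgroup K) : Set K), x b ∈ normalizer ((U : Subgroup K) : Set K)) →
    ∀ M : Subgroup K, normalizer ((U : Subgroup K) : Set K) ≤ M → (∃ m ∈ M, x m ∉ M) → False

theorem Row23.swap {r : ℕ} {K : Type*} [Group K] (h : Row23 2 K) : SwapRow r K :=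
  fun x hx hR hP hT _ _ _ _ _ => h x hx hR hP hT

theorem NoRC.row {p : ℕ} {K : Type*} [Group K] (h : NoRC p K) : Row23 p K := fun x hx hR _ _ => h x hx hR

section Transport

variable {K L : Type*} [Group K] [Group L]

theorem TT.tr {x : MulAut K} (e : K ≃* L) (h : TT x) : TT (H459.Rad.tr e x) := by
  intro g w hw l hl h5 hwl
  have hmap : (_root_.Subgroup.closure ({x, MulAut.conj (e.symm g) * x * (MulAut.conj (e.symm g))⁻¹} : Set (MulAut K))).map
      (trE e).toMonoidHom = _root_.Subgroup.closure ({H459.Rad.tr e x, MulAut.conj g * H459.Rad.tr e x * (MulAut.conj g)⁻¹} : Set (MulAut L)) := by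
    have h1 : (trE e).toMonoidHom (MulAut.conj (e.symm g) * x * (MulAut.conj (e.symm g))⁻¹) =
        MulAut.conj g * H459.Rad.tr e x * (MulAut.conj g)⁻¹ := by
      show H459.Rad.tr e (MulAut.conj (e.symm g) * x * (MulAut.conj (e.symm g))⁻¹) = _
      ext k
      simp only [tr_apply, _root_.MulAut.mul_apply, _root_.MulAut.inv_apply, _root_.MulAut.conj_symm_apply, _root_.map_mul, _root_.map_inv, _root_.MulAut.conj_apply, _root_.MulEquiv.apply_symm_apply]
    have h2 : (trE e).toMonoidHom x = H459.Rad.tr e x := rfl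
    rw [MonoidHom.map_closure, Set.image_pair, h1, h2]
  rw [← hmap] at hw
  obtain ⟨v, hv, rfl⟩ := hw
  refine h _ v hv l hl h5 ?_
  rw [← hwl]
  exact (orderOf_tr e v).symm

theorem NoRC.congr [Finite K] [Finite L] {p : ℕ} (e : K ≃* L) (h : NoRC p L) : NoRC p K := by
  intro x hx hR
  exact h (H459.Rad.tr e x) (by rw [orderOf_tr, hx]) (hR.tr e)

theorem Row23.congr [Finite K] [Finite L] {p : ℕ} (e : K ≃* L) (h : Row23 p L) : Row23 p K := by
  intro x hx hR hP hT
  exact h (H459.Rad.tr e x) (by rw [orderOf_tr, hx]) (hR.tr e) (hP.tr e) (hT.tr e)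

end Transport

section Cx

variable {K : Type*} [Group K] [Finite K]

theorem cx_eq_tr (x : MulAut K) (g : K) : H459.Rad.tr (MulAut.conj g⁻¹) x = cx x g := by
  ext k
  rw [tr_apply, cx_apply]
  simp

theorem PS.cx {n : ℕ} {x : MulAut K} (h : PS n x) (g : K) : PS n (cx x g) := by
  rw [← cx_eq_tr]
  exact h.tr _

theorem TT.cx {x : MulAut K} (h : TT x) (g : K) : TT (cx x g) := by
  rw [← cx_eq_tr]
  exact h.tr _

theorem orderOf_cx (x : MulAut K) (g : K) : orderOf (cx x g) = orderOf x := by
  rw [← cx_eq_tr, orderOf_tr]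

/-- the commutator `[x, a]` lies in `⟨x, x^a⟩` -/
theorem conj_mem_closure (x : MulAut K) (a : K) : MulAut.conj (x a * a⁻¹) ∈
    _root_.Subgroup.closure ({x, MulAut.conj a * x * (MulAut.conj a)⁻¹} : Set (MulAut K)) := by
  have h1 : MulAut.conj (x a * a⁻¹) = x * (MulAut.conj a * x * (MulAut.conj a)⁻¹)⁻¹ := by
    ext k
    simp only [mul_assoc, MulAut.mul_apply, _root_.map_mul, _root_.map_inv, _root_.MulAut.inv_apply, _root_.MulAut.conj_symm_apply, _root_.MulAut.conj_apply, _root_.mul_inv_rev, _root_.inv_inv, _root_.MulEquiv.apply_symm_apply]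
  rw [h1]
  exact mul_mem (_root_.Subgroup.subset_closure (by simp)) (inv_mem (_root_.Subgroup.subset_closure (by simp only [_root_.Set.mem_insert_iff, _root_.Set.mem_singleton_iff, _root_.or_true])))

/-- **`x` centralises every invariant `l`-subgroup, `l ≥ 5`** -/
theorem TT.fix {x : MulAut K} (h : TT x) (hc : center K = ⊥) {l : ℕ} (hl : l.Prime) (h5 : 5 ≤ l) {Q : Subgroup K}
    (hQ : IsPGroup l Q) (hx : ∀ a ∈ Q, x a ∈ Q) {a : K} (ha : a ∈ Q) : x a = a := by
  by_contra hne
  have h1 : x a * a⁻¹ ∈ Q := mul_mem (hx a ha) (inv_mem ha)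
  have h2 : x a * a⁻¹ ≠ 1 := fun h => hne (mul_inv_eq_one.1 h)
  set b := x a * a⁻¹ with hb
  obtain ⟨k, hk⟩ := hQ ⟨b, h1⟩
  have hk' : b ^ l ^ k = 1 := congrArg Subtype.val hk
  obtain ⟨j, hj, hjo⟩ := (Nat.dvd_prime_pow hl).1 (orderOf_dvd_of_pow_eq_one hk')
  have hj0 : j ≠ 0 := by
    rintro rfl
    rw [pow_zero, orderOf_eq_one_iff] at hjo
    exact h2 hjo
  obtain ⟨i, rfl⟩ := Nat.exists_eq_succ_of_ne_zero hj0
  have hw := h a (MulAut.conj b ^ l ^ i) (pow_mem (conj_mem_closure x a) _) l hl h5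
  apply hw
  rw [← map_pow, orderOf_injective _ (H839.Rad.conj_injective hc), orderOf_pow, hjo, Nat.succ_eq_add_one,
    Nat.gcd_eq_right (pow_dvd_pow l (Nat.le_succ i)), pow_succ]
  exact Nat.mul_div_cancel_left _ (pow_pos hl.pos _)

/-- `x` inverts no element of prime order at least five -/
theorem TT.no_inv {x : MulAut K} (h : TT x) (hc : center K = ⊥) {l : ℕ} (hl : l.Prime) (h5 : 5 ≤ l) {y : K}
    (hy : orderOf y = l) : x y ≠ y⁻¹ := by
  intro hxy
  have hQ : IsPGroup l (zpowers y) := IsPGroup.of_card (n := 1) (by rw [Nat.card_zpowers, hy, pow_one])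
  have h1 := h.fix hc hl h5 hQ (by
    rintro _ ⟨n, rfl⟩
    exact ⟨-n, by simp [map_zpow, hxy]⟩) (mem_zpowers y)
  rw [hxy] at h1
  have h2 : y ^ 2 = 1 := by
    rw [pow_two]
    nth_rewrite 1 [← h1]
    exact inv_mul_cancel y
  have h3 := Nat.le_of_dvd (by norm_num) (orderOf_dvd_of_pow_eq_one h2)
  omega

/-- **the commutators `x a * a⁻¹` are `{2, 3}`-elements** -/
theorem TT.not_dvd {x : MulAut K} (h : TT x) (hc : center K = ⊥) {l : ℕ} (hl : l.Prime) (h5 : 5 ≤ l) (a : K) :
    ¬ l ∣ orderOf (x a * a⁻¹) := by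
  rintro ⟨m, hm⟩
  have hm0 : m ≠ 0 := by
    rintro rfl
    rw [mul_zero] at hm
    exact (orderOf_pos (x a * a⁻¹)).ne' hm
  refine h a (MulAut.conj (x a * a⁻¹) ^ m) (pow_mem (conj_mem_closure x a) _) l hl h5 ?_
  rw [← map_pow, orderOf_injective _ (H839.Rad.conj_injective hc), orderOf_pow, hm, Nat.gcd_mul_left_left]
  exact Nat.mul_div_cancel _ (Nat.pos_of_ne_zero hm0)

/-- **`x` acts trivially on the invariant `l`-sections, `l ≥ 5`** -/
theorem TT.map_eq {x : MulAut K} (h : TT x) (hc : center K = ⊥) {l : ℕ} (hl : l.Prime) (h5 : 5 ≤ l) {M : Subgroup K}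
    (hx : ∀ m ∈ M, x m ∈ M) {Q : Type*} [Group Q] (f : M →* Q) (m : M)
    (hm : ∃ k : ℕ, (f ⟨x m, hx m m.2⟩ * (f m)⁻¹) ^ l ^ k = 1) : f ⟨x m, hx m m.2⟩ = f m := by
  obtain ⟨k, hk⟩ := hm
  have h1 : orderOf (f ⟨x m, hx m m.2⟩ * (f m)⁻¹) ∣ l ^ k := orderOf_dvd_of_pow_eq_one hk
  obtain ⟨j, -, hj⟩ := (Nat.dvd_prime_pow hl).1 h1
  rcases Nat.eq_zero_or_pos j with h0 | h0
  · rw [h0, pow_zero, orderOf_eq_one_iff] at hj
    exact mul_inv_eq_one.1 hj
  · exfalso
    apply h.not_dvd hc hl h5 (m : K)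
    have h2 : orderOf (f (⟨x m, hx m m.2⟩ * m⁻¹)) ∣ orderOf ((⟨x m, hx m m.2⟩ : M) * m⁻¹) := orderOf_map_dvd f _
    rw [map_mul, map_inv, hj, ← Subgroup.orderOf_coe] at h2
    exact (dvd_pow_self l h0.ne').trans h2

end Cx

/-! ### Three and four conjugates -/

section Three

/-- **the perfect triple criterion** -/
theorem not_solvable_of_three {G : Type*} [Group G] {a b c : G} {m n k : ℕ} (ha : a * a = 1) (hb : b * b = 1)
    (hc : c * c = 1) (hab : (a * b) ^ m = 1) (hbc : (b * c) ^ n = 1) (habc : (a * b * c) ^ k = 1) (hm : Odd m)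
    (hn : Odd n) (hk : Odd k) (hne : a ≠ 1) : ¬ Group.IsSolvable ↥(_root_.Subgroup.closure ({a, b, c} : Set G)) := by
  intro hs
  set H := _root_.Subgroup.closure ({a, b, c} : Set G) with hH
  set a' : H := ⟨a, _root_.Subgroup.subset_closure (by simp)⟩ with ha'
  set b' : H := ⟨b, _root_.Subgroup.subset_closure (by simp)⟩ with hb'
  set c' : H := ⟨c, _root_.Subgroup.subset_closure (by simp)⟩ with hc'
  set φ : H →* Abelianization H := Abelianization.of with hφ
  have odd_one : ∀ {z : Abelianization H} {j : ℕ}, z ^ 2 = 1 → z ^ j = 1 → Odd j → z = 1 := by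
    intro z j h1 h2 h3
    have h4 : orderOf z ∣ 1 := by
      have h5 : Nat.Coprime j 2 := h3.coprime_two_right
      rw [← h5.gcd_eq_one]
      exact Nat.dvd_gcd (orderOf_dvd_of_pow_eq_one h2) (orderOf_dvd_of_pow_eq_one h1)
    exact orderOf_eq_one_iff.1 (Nat.dvd_one.1 h4)
  have ea : φ a' ^ 2 = 1 := by
    have : a' ^ 2 = 1 := Subtype.ext (by rw [pow_two]; exact ha)
    rw [← map_pow, this, map_one]
  have eb : φ b' ^ 2 = 1 := by
    have : b' ^ 2 = 1 := Subtype.ext (by rw [pow_two]; exact hb)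
    rw [← map_pow, this, map_one]
  have ec : φ c' ^ 2 = 1 := by
    have : c' ^ 2 = 1 := Subtype.ext (by rw [pow_two]; exact hc)
    rw [← map_pow, this, map_one]
  have h1 : φ a' * φ b' = 1 := odd_one (by rw [mul_pow, ea, eb, one_mul]) (by
    have : (a' * b') ^ m = 1 := Subtype.ext hab
    rw [← map_mul, ← map_pow, this, map_one]) hm
  have h2 : φ b' * φ c' = 1 := odd_one (by rw [mul_pow, eb, ec, one_mul]) (by
    have : (b' * c') ^ n = 1 := Subtype.ext hbc
    rw [← map_mul, ← map_pow, this, map_one]) hn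
  have h3 : φ a' * φ b' * φ c' = 1 := odd_one (by rw [mul_pow, mul_pow, ea, eb, ec, one_mul, one_mul]) (by
    have : (a' * b' * c') ^ k = 1 := Subtype.ext habc
    rw [← map_mul, ← map_mul, ← map_pow, this, map_one]) hk
  have h4 : φ c' = 1 := by rwa [h1, one_mul] at h3
  have h5 : φ b' = 1 := by rwa [h4, mul_one] at h2
  have h6 : φ a' = 1 := by rwa [h5, mul_one] at h1
  -- `H` is perfect
  have hker : ∀ z : H, φ z = 1 := by
    have h7 : (⊤ : Subgroup H) ≤ φ.ker := by
      have h8 : _root_.Subgroup.closure ({a', b', c'} : Set H) = ⊤ := by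
        apply Subgroup.map_injective H.subtype_injective
        rw [MonoidHom.map_closure, ← MonoidHom.range_eq_map, H.range_subtype, Set.image_insert_eq, Set.image_pair]
        rfl
      rw [← h8, closure_le]
      rintro z (rfl | rfl | rfl)
      · exact h6
      · exact h5
      · exact h4
    exact fun z => h7 (mem_top z)
  have hperf : commutator H = ⊤ := by
    rw [eq_top_iff]
    intro z _
    exact (QuotientGroup.eq_one_iff z).1 (hker z)
  have hnt : Nontrivial H := ⟨a', 1, fun h => hne (congrArg Subtype.val h)⟩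
  have h9 := Group.IsSolvable.commutator_lt_top_of_nontrivial H
  rw [hperf] at h9
  exact lt_irrefl _ h9

variable {K : Type*} [Group K] [Finite K]

/-- four conjugates of an inner automorphism -/
theorem solvable_four (hc : center K = ⊥) {x : K} (h : PS 4 (MulAut.conj x)) (f : Fin 4 → K) :
    Group.IsSolvable ↥(_root_.Subgroup.closure (Set.range fun i => f i * x * (f i)⁻¹) : Subgroup K) := by
  have hinj := H839.Rad.conj_injective hc
  have h2 : (_root_.Subgroup.closure (Set.range fun i => f i * x * (f i)⁻¹)).map (MulAut.conj : K →* MulAut K) =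
      _root_.Subgroup.closure (Set.range fun i => MulAut.conj (f i) * MulAut.conj x * (MulAut.conj (f i))⁻¹) := by
    rw [MonoidHom.map_closure, ← Set.range_comp]
    congr 2
    funext i
    simp only [_root_.Function.comp_apply, _root_.map_mul, _root_.map_inv]
  have h3 : Group.IsSolvable ↥((_root_.Subgroup.closure (Set.range fun i => f i * x * (f i)⁻¹)).map (MulAut.conj : K →* MulAut K)) := by
    rw [h2]
    exact h f
  exact Group.isSolvable_of_isSolvable_injective
    (f := (MulAut.conj : K →* MulAut K).subgroupMap (_root_.Subgroup.closure (Set.range fun i => f i * x * (f i)⁻¹)))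
    (fun a b hab => Subtype.ext (hinj (congrArg Subtype.val hab)))

/-- three conjugates of an inner automorphism -/
theorem solvable_three (hc : center K = ⊥) {x : K} (h : PS 4 (MulAut.conj x)) (g k : K) :
    Group.IsSolvable ↥(_root_.Subgroup.closure ({x, g * x * g⁻¹, k * x * k⁻¹} : Set K)) := by
  refine ComponentExists.isSolvable_of_le ?_ (solvable_four hc h ![1, g, k, 1])
  rw [closure_le]
  rintro z (rfl | rfl | rfl)
  · exact subset_closure ⟨0, by simp⟩
  · exact subset_closure ⟨1, by simp⟩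
  · exact subset_closure ⟨2, by simp⟩

/-- **an involution with three conjugates generating a perfect group is excluded** -/
theorem false_of_three (hc : center K = ⊥) {x : K} (hxx : x * x = 1) (hx : x ≠ 1) (h : PS 4 (MulAut.conj x)) (g k : K)
    {l m n : ℕ} (h1 : (x * (g * x * g⁻¹)) ^ l = 1) (h2 : (g * x * g⁻¹ * (k * x * k⁻¹)) ^ m = 1)
    (h3 : (x * (g * x * g⁻¹) * (k * x * k⁻¹)) ^ n = 1) (hl : Odd l) (hm : Odd m) (hn : Odd n) : False := by
  have hcj : ∀ y : K, y * x * y⁻¹ * (y * x * y⁻¹) = 1 := by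
    intro y
    have : y * x * y⁻¹ * (y * x * y⁻¹) = y * (x * x) * y⁻¹ := by group
    rw [this, hxx]
    group
  exact not_solvable_of_three hxx (hcj g) (hcj k) h1 h2 h3 hl hm hn hx (solvable_three hc h g k)

end Three

section Inner

variable {K : Type*} [Group K]

/-- `NoRC` for the inner automorphisms -/
def NoRCI (p : ℕ) (K : Type*) [Group K] : Prop := ∀ x : K, orderOf x = p → RC (MulAut.conj x) → False

theorem noRC_of_inner {p : ℕ} (hc : center K = ⊥) (hi : ∀ x : MulAut K, orderOf x = p → ∃ g : K, x = MulAut.conj g)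
    (h : NoRCI p K) : NoRC p K := by
  intro x hx hR
  obtain ⟨g, rfl⟩ := hi x hx
  exact h g (by rwa [orderOf_injective _ (H839.Rad.conj_injective hc)] at hx) hR

theorem NoRCI.congr {L : Type*} [Group L] [Finite K] [Finite L] {p : ℕ} (e : K ≃* L) (h : NoRCI p L) : NoRCI p K := by
  intro x hx h1
  have h3 : H459.Rad.tr e (MulAut.conj x) = MulAut.conj (e x) := by
    ext l
    rw [tr_apply, MulAut.conj_apply, MulAut.conj_apply, map_mul, map_mul, map_inv, MulEquiv.apply_symm_apply]
  have h4 := RC.tr e h1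
  rw [h3] at h4
  exact h (e x) (by rw [MulEquiv.orderOf_eq, hx]) h4

variable [Finite K]

/-- **an outer or inner automorphism normalising a proper simple non-abelian subgroup centralises it** -/
theorem RC.eq_of_simple {x : MulAut K} (h : RC x) {M : Subgroup K} (hM : M ≠ ⊤) (hx : ∀ m ∈ M, x m ∈ M)
    (hs : IsSimpleGroup M) (hn : ¬ Group.IsSolvable M) {m : K} (hm : m ∈ M) : x m = m :=
  h.eq_of_rad_eq_bot hM hx (rad_eq_bot_of_simple hn) hm

end Inner

end Cfsg.Agent.H483.Rad23
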