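import Mathlib
import Cfsg.Agent.H483.Rad23.Rows2
import Cfsg.Agent.H724.RowTwoPsu3_mg_m3
import Cfsg.Agent.S0000
import Cfsg.Agent.S3829
import Cfsg.Agent.H383.R23.J3_mg_m3
import Cfsg.Agent.H842.RadTwoB
import Cfsg.Agent.H959.Rad3.Row3
import Cfsg.Agent.Prune
set_option linter.all false
prune_inst 0x7f00000000000000000000000000000000000000000000000000000000000000000000000000000000000000000000000000000000000000000000000000000000000000000000000000000000000000003fffffffffffffffffffffffffffbeffbdffffffff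

/-!
# The core of S3832 and S4336 (helper483)
-/

set_option autoImplicit false
set_option linter.unusedSectionVars false

namespace Cfsg.Agent.H483.Rad23.Core

open Cfsg Subgroup Cfsg.Agent.H459.Rad Cfsg.Agent.H483.Rad23 Cfsg.Agent.H483.Rad23.End

universe u

theorem five : Five.{u} := by
  intro G _ _ p x hp h5 hx h
  have : Fact p.Prime := ⟨hp⟩
  exact (Cfsg.Agent.S3829.result h5 x hx).2 h

theorem fischer : RowsSpor.Fischer.{u} where
  fi22 := fun _ _ _ _ h => Cfsg.Agent.H842.RadTwo.row2_fi22 h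
  fi23 := fun _ _ _ _ h => Cfsg.Agent.H842.RadTwo.row2_fi23 h
  fi24 := fun _ _ _ _ h => Cfsg.Agent.H842.RadTwo.row2_fi24 h

theorem core (p : ℕ) (hp : p.Prime) (K : Type u) [Group K] [Finite K] [IsSimpleGroup K] (x : MulAut K)
    (hna : ¬ IsMulCommutative K) (hx : orderOf x = p) (hR : RC x) (hP : PS 4 x) : False :=
  core_of_rows five
    (fun _ _ _ _ hna => Rows2.row2_known (fun _ _ _ _ _ _ _ hF e => Cfsg.Agent.H499.Rad2.row2_psu43 hF e)
      fischer hna Cfsg.Agent.S0000.result)
    (fun _ _ _ _ hna => Cfsg.Agent.H959.Rad3.Row3.row3 hna Cfsg.Agent.S0000.result) p hp K x hna hx hR hP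

end Cfsg.Agent.H483.Rad23.Core
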